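import Mathlib
import Cfsg.Agent.Helper43.PsuM.RDefs

/-!
# S2089, block II (helper78): the `p'`-part of the multiplier of a finite group with a split
`(B,N)`-pair of characteristic `p` — definitions

`RData G r` : a group `G` with subgroups `U` (a `p`-group), `H` (abelian, normalising `U`), root subgroups
`X i ≤ U` and elements `s i` (`i : Fin r`) representing the simple reflections.
`D.IsSplit p` : the axioms (rank one decomposition, `U = (U ∩ U^{s_i}) X_i`, the dichotomy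
`ν⁻¹ X_i ν ≤ U` or `ν⁻¹ Y_i ν ≤ U` for `ν ∈ N`, `H = ∏ (H ∩ L_i)` directly, the Weyl group is
"presented by conjugation", ...).

For a central extension `τ : Γ →* G` with kernel of order prime to `p` the canonical lifts
(`plift τ p`) of the `p`-subgroups `U`, `X i`, `Y i` generate, together with the lifts of `H ∩ L_i` inside
`L̃_i = ⟨X̃_i, Ỹ_i⟩`, a subgroup of `Γ` which meets the kernel trivially (Steinberg's normal form).
-/

set_option autoImplicit false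

namespace Cfsg.Agent.Helper78.PsuII

open Cfsg.Agent.Helper43.PsuM

universe u

section cj

variable {G : Type*} [Group G]

/-- the conjugate subgroup `g X g⁻¹` -/
def cj (g : G) (X : Subgroup G) : Subgroup G := X.map (MulAut.conj g).toMonoidHom

theorem mem_cj_iff (g : G) (X : Subgroup G) (a : G) : a ∈ cj g X ↔ g⁻¹ * a * g ∈ X := by
  unfold cj
  constructor
  · rintro ⟨x, hx, rfl⟩
    have : g⁻¹ * ((MulAut.conj g).toMonoidHom x) * g = x := by
      simp [MulAut.conj_apply, mul_assoc]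
    rw [this]
    exact hx
  · intro h
    refine ⟨g⁻¹ * a * g, h, ?_⟩
    simp [MulAut.conj_apply, mul_assoc]

theorem conj_mem_cj (g : G) {X : Subgroup G} {x : G} (hx : x ∈ X) : g * x * g⁻¹ ∈ cj g X := by
  rw [mem_cj_iff]
  have : g⁻¹ * (g * x * g⁻¹) * g = x := by group
  rw [this]
  exact hx

end cj

/-- the data: `U`, `H`, the simple root subgroups `X i` and representatives `s i` of the simple
reflections -/
structure RData (G : Type u) [Group G] (r : ℕ) where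
  /-- the unipotent subgroup -/
  U : Subgroup G
  /-- the torus -/
  H : Subgroup G
  /-- the simple root subgroups -/
  X : Fin r → Subgroup G
  /-- representatives of the simple reflections -/
  s : Fin r → G

namespace RData

variable {G : Type u} [Group G] {r : ℕ} (D : RData G r)

/-- the opposite root subgroup `Y_i = s_i X_i s_i⁻¹` -/
def Y (i : Fin r) : Subgroup G := cj (D.s i) (D.X i)

/-- the rank one subgroup `L_i = ⟨X_i, Y_i⟩` -/
def L (i : Fin r) : Subgroup G := D.X i ⊔ D.Y i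

/-- the rank one torus `H_i = H ∩ L_i` -/
def Hi (i : Fin r) : Subgroup G := D.H ⊓ D.L i

/-- the group `N = ⟨H, s_i⟩` -/
def N : Subgroup G := D.H ⊔ Subgroup.closure (Set.range D.s)

/-- the Weyl group `N / H` is presented by the conjugation relations between the simple reflections: a group `M`
over `N`, generated by a normal subgroup `K` above `H` and lifts `m i` of the `s i` which are involutions modulo
`K` and satisfy the conjugation principle (`φ g` conjugates `s_j` to `s_i` mod `H` ⟹ `g` conjugates `m_j` to `m_i`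
mod `K`), has `φ⁻¹(H) = K`. -/
def WeylPres : Prop :=
  ∀ (M : Type u) [Group M] (φ : M →* G) (K : Subgroup M) (m : Fin r → M),
    (∀ k ∈ K, φ k ∈ D.H) → (∀ i, φ (m i) * (D.s i)⁻¹ ∈ D.H) →
    K ⊔ Subgroup.closure (Set.range m) = ⊤ →
    (∀ i, ∀ k ∈ K, m i * k * (m i)⁻¹ ∈ K) → (∀ i, ∀ k ∈ K, (m i)⁻¹ * k * m i ∈ K) →
    (∀ i, m i * m i ∈ K) →
    (∀ (g : M) (i j : Fin r), φ g * D.s j * (φ g)⁻¹ * (D.s i)⁻¹ ∈ D.H →
      g * m j * g⁻¹ * (m i)⁻¹ ∈ K) →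
    ∀ g : M, φ g ∈ D.H → g ∈ K

/-- the axioms of a split `(B,N)`-pair of characteristic `p` with a simply connected torus, in the form used
by the lifting argument -/
structure IsSplit (p : ℕ) : Prop where
  pU : IsPGroup p D.U
  X_le : ∀ i, D.X i ≤ D.U
  X_ne : ∀ i, ∃ x ∈ D.X i, x ≠ 1
  H_comm : ∀ a ∈ D.H, ∀ b ∈ D.H, a * b = b * a
  H_U : ∀ h ∈ D.H, ∀ u ∈ D.U, h * u * h⁻¹ ∈ D.U
  H_X : ∀ i, ∀ h ∈ D.H, ∀ x ∈ D.X i, h * x * h⁻¹ ∈ D.X i
  U_inf_H : ∀ g ∈ D.U, g ∈ D.H → g = 1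
  s_sq : ∀ i, D.s i * D.s i ∈ D.H
  s_H : ∀ i, ∀ h ∈ D.H, D.s i * h * (D.s i)⁻¹ ∈ D.H
  s_H' : ∀ i, ∀ h ∈ D.H, (D.s i)⁻¹ * h * D.s i ∈ D.H
  /-- rank one: `Y_i ∖ 1 ⊆ X_i H s_i X_i` -/
  rank_one : ∀ i, ∀ y ∈ D.Y i, y ≠ 1 →
    ∃ x₁ ∈ D.X i, ∃ h ∈ D.H, ∃ x₂ ∈ D.X i, y = x₁ * (h * D.s i) * x₂
  /-- `U = (U ∩ s_i⁻¹ U s_i) X_i` -/
  factor : ∀ i, ∀ u ∈ D.U, ∃ y ∈ D.U, ∃ x ∈ D.X i, u = y * x ∧ D.s i * y * (D.s i)⁻¹ ∈ D.U
  /-- for `ν ∈ N`: `ν⁻¹ X_i ν ≤ U` or `ν⁻¹ Y_i ν ≤ U` -/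
  dichotomy : ∀ i, ∀ ν ∈ D.N,
    (∀ x ∈ D.X i, ν⁻¹ * x * ν ∈ D.U) ∨ (∀ y ∈ D.Y i, ν⁻¹ * y * ν ∈ D.U)
  /-- the torus is generated by the rank one tori -/
  H_gen : D.H ≤ ⨆ i, D.Hi i
  /-- and is their direct product -/
  H_indep : ∀ i : Fin r, ∀ g ∈ D.Hi i, g ∈ (⨆ j : {j : Fin r // j < i}, D.Hi j.1) → g = 1
  B_inf_N : ∀ g ∈ D.U ⊔ D.H, g ∈ D.N → g ∈ D.H
  gen : D.U ⊔ D.N = ⊤
  /-- an element of `N` conjugating the reflection `s_j` to `s_i` (modulo `H`) conjugates `{X_j, Y_j}` to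
  `{X_i, Y_i}` -/
  conjL : ∀ ν ∈ D.N, ∀ i j, ν * D.s j * ν⁻¹ * (D.s i)⁻¹ ∈ D.H →
    (cj ν (D.X j) ≤ D.X i ∧ cj ν (D.Y j) ≤ D.Y i) ∨ (cj ν (D.X j) ≤ D.Y i ∧ cj ν (D.Y j) ≤ D.X i)
  /-- the Weyl group `N / H` is presented by the conjugation relations between the simple reflections
  (true for the Weyl group of any `(B,N)`-pair: exchange condition) -/
  weyl : D.WeylPres

end RData

/-! ### the lifted objects -/

section lift

variable {Γ G : Type u} [Group Γ] [Group G] {r : ℕ} (τ : Γ →* G) (p : ℕ) (D : RData G r)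

/-- `Ũ` -/
def Ut : Subgroup Γ := plift τ p D.U

/-- `X̃_i` -/
def Xt (i : Fin r) : Subgroup Γ := plift τ p (D.X i)

/-- `Ỹ_i` -/
def Yt (i : Fin r) : Subgroup Γ := plift τ p (D.Y i)

/-- `L̃_i = ⟨X̃_i, Ỹ_i⟩` -/
def Lt (i : Fin r) : Subgroup Γ := Xt τ p D i ⊔ Yt τ p D i

/-- `H̃_i`: the elements of `L̃_i` above `H` -/
def Hit (i : Fin r) : Subgroup Γ := Lt τ p D i ⊓ D.H.comap τ

/-- `H̃ = ⟨H̃_i⟩` -/
def Ht : Subgroup Γ := ⨆ i, Hit τ p D i

/-- the elements of `L̃_i` above `H s_i` -/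
def Nit (i : Fin r) : Set Γ := {g | g ∈ Lt τ p D i ∧ τ g * (D.s i)⁻¹ ∈ D.H}

/-- `Ñ = ⟨H̃, ñ_i⟩` -/
def Nt : Subgroup Γ := Ht τ p D ⊔ Subgroup.closure (⋃ i, Nit τ p D i)

/-- `B̃ = Ũ H̃` -/
def Bt : Subgroup Γ := Ut τ p D ⊔ Ht τ p D

end lift

end Cfsg.Agent.Helper78.PsuII
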