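import Cfsg.Agent.Helper78.PsuII.Defs

/-!
# S2089, block II (helper78): the intermediate statements of the abstract lifting argument, as `Prop`s

Each farmed piece proves one of these structures from earlier ones (given as explicit hypotheses), so the pieces
are independent of each other and the assembly (`Main.lean`) only chains them.
-/

set_option autoImplicit false

namespace Cfsg.Agent.Helper78.PsuII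

open Cfsg.Agent.Helper43.PsuM

universe u

/-- consequences of the axioms inside `G` -/
structure GFacts {G : Type u} [Group G] {r : ℕ} (D : RData G r) (p : ℕ) : Prop where
  pX : ∀ i, IsPGroup p (D.X i)
  pY : ∀ i, IsPGroup p (D.Y i)
  H_Y : ∀ i, ∀ h ∈ D.H, ∀ y ∈ D.Y i, h * y * h⁻¹ ∈ D.Y i
  H_le_N : D.H ≤ D.N
  s_mem_N : ∀ i, D.s i ∈ D.N
  N_H : ∀ ν ∈ D.N, ∀ h ∈ D.H, ν * h * ν⁻¹ ∈ D.H
  /-- `(h s_i) X_i (h s_i)⁻¹ ≤ Y_i` -/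
  hs_X : ∀ i, ∀ h ∈ D.H, cj (h * D.s i) (D.X i) ≤ D.Y i
  /-- `(h s_i) Y_i (h s_i)⁻¹ ≤ X_i` -/
  hs_Y : ∀ i, ∀ h ∈ D.H, cj (h * D.s i) (D.Y i) ≤ D.X i
  hs_sq : ∀ i, ∀ h ∈ D.H, h * D.s i * (h * D.s i) ∈ D.H
  /-- the `H`-component of the rank one decomposition lies in `L_i` -/
  rank_one_L : ∀ i, ∀ y ∈ D.Y i, y ≠ 1 →
    ∃ x₁ ∈ D.X i, ∃ h ∈ D.H, ∃ x₂ ∈ D.X i, y = x₁ * (h * D.s i) * x₂ ∧ h * D.s i ∈ D.L i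
  /-- some element of `H s_i` lies in `L_i` -/
  exists_n : ∀ i, ∃ h ∈ D.H, h * D.s i ∈ D.L i

section lift

variable {Γ G : Type u} [Group Γ] [Group G] {r : ℕ} (τ : Γ →* G) (p : ℕ) (D : RData G r)

/-- first facts on the lifts `L̃_i` -/
structure LFacts : Prop where
  /-- `τ` is injective on `L̃_i` (this is (RK1) of block R) -/
  inj : ∀ i, ∀ g ∈ Lt τ p D i, τ g = 1 → g = 1
  map_le : ∀ i, ∀ g ∈ Lt τ p D i, τ g ∈ D.L i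
  surj : ∀ i, ∀ a ∈ D.L i, ∃ g ∈ Lt τ p D i, τ g = a
  /-- an element of `L̃_i` above a `p`-subgroup `P` lies in the canonical lift of `P` -/
  mem_plift : ∀ i (P : Subgroup G), IsPGroup p P → ∀ g ∈ Lt τ p D i, τ g ∈ P → g ∈ plift τ p P
  /-- canonical lifts are conjugation-equivariant -/
  conj_plift : ∀ (X X' : Subgroup G), IsPGroup p X → IsPGroup p X' → ∀ g : Γ, cj (τ g) X ≤ X' →
    ∀ x ∈ plift τ p X, g * x * g⁻¹ ∈ plift τ p X'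
  /-- hence so are the `L̃_i` -/
  conj_Lt : ∀ (g : Γ) (i j : Fin r),
    ((cj (τ g) (D.X j) ≤ D.X i ∧ cj (τ g) (D.Y j) ≤ D.Y i) ∨
      (cj (τ g) (D.X j) ≤ D.Y i ∧ cj (τ g) (D.Y j) ≤ D.X i)) →
    ∀ a ∈ Lt τ p D j, g * a * g⁻¹ ∈ Lt τ p D i
  Xt_le_Ut : ∀ i, Xt τ p D i ≤ Ut τ p D
  /-- `τ` is injective on `Ũ` and maps it onto `U` -/
  Ut_inj : ∀ g ∈ Ut τ p D, τ g = 1 → g = 1
  Ut_map : ∀ g ∈ Ut τ p D, τ g ∈ D.U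
  Xt_map : ∀ i, ∀ g ∈ Xt τ p D i, τ g ∈ D.X i
  Yt_map : ∀ i, ∀ g ∈ Yt τ p D i, τ g ∈ D.Y i
  Xt_surj : ∀ i, ∀ x ∈ D.X i, ∃ g ∈ Xt τ p D i, τ g = x
  /-- an element above `U` of `p`-power order lies in `Ũ` -/
  mem_Ut : ∀ g : Γ, τ g ∈ D.U → (∃ k : ℕ, g ^ p ^ k = 1) → g ∈ Ut τ p D
  Ut_pow : ∀ g ∈ Ut τ p D, ∃ k : ℕ, g ^ p ^ k = 1

/-- the lifted torus `H̃` -/
structure HFacts : Prop where
  /-- elements above `H` normalise `L̃_i` -/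
  norm : ∀ g : Γ, τ g ∈ D.H → ∀ i, ∀ a ∈ Lt τ p D i, g * a * g⁻¹ ∈ Lt τ p D i
  /-- elements above `H` centralise `H̃_i` -/
  cent : ∀ g : Γ, τ g ∈ D.H → ∀ i, ∀ b ∈ Hit τ p D i, g * b = b * g
  /-- elements above `H` normalise `Ũ` -/
  norm_U : ∀ g : Γ, τ g ∈ D.H → ∀ u ∈ Ut τ p D, g * u * g⁻¹ ∈ Ut τ p D
  map_le : ∀ g ∈ Ht τ p D, τ g ∈ D.H
  comm : ∀ a ∈ Ht τ p D, ∀ b ∈ Ht τ p D, a * b = b * a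

/-- `τ : H̃ → H` is an isomorphism -/
structure HIso : Prop where
  inj : ∀ g ∈ Ht τ p D, τ g = 1 → g = 1
  surj : ∀ h ∈ D.H, ∃ g ∈ Ht τ p D, τ g = h

/-- the lifts `ñ_i` and `Ñ` -/
structure NFacts : Prop where
  nonempty : ∀ i, ∃ a, a ∈ Nit τ p D i
  mul_inv : ∀ i, ∀ a ∈ Nit τ p D i, ∀ b ∈ Nit τ p D i, a * b⁻¹ ∈ Hit τ p D i
  mul_mem : ∀ i, ∀ h ∈ Hit τ p D i, ∀ a ∈ Nit τ p D i, h * a ∈ Nit τ p D i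
  sq : ∀ i, ∀ a ∈ Nit τ p D i, a * a ∈ Hit τ p D i
  conj_X : ∀ i, ∀ a ∈ Nit τ p D i, ∀ x ∈ Xt τ p D i, a * x * a⁻¹ ∈ Yt τ p D i
  map_N : ∀ g ∈ Nt τ p D, τ g ∈ D.N
  /-- `H̃` is normal in `Ñ` -/
  normal : ∀ g ∈ Nt τ p D, ∀ h ∈ Ht τ p D, g * h * g⁻¹ ∈ Ht τ p D
  /-- the conjugation principle: if `τ g` conjugates `s_j` to `s_i` modulo `H` then `g` conjugates `ñ_j` to `ñ_i`
  modulo `H̃_i` -/
  conj_n : ∀ g ∈ Nt τ p D, ∀ i j, τ g * D.s j * (τ g)⁻¹ * (D.s i)⁻¹ ∈ D.H →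
    ∀ a ∈ Nit τ p D j, g * a * g⁻¹ ∈ Nit τ p D i

/-- `Ñ ∩ τ⁻¹(H) = H̃` -/
def NInf : Prop := ∀ g ∈ Nt τ p D, τ g ∈ D.H → g ∈ Ht τ p D

/-- the lifted factorisation of `Ũ` and the lifted rank one decomposition -/
structure RFacts : Prop where
  factor : ∀ i, ∀ u ∈ Ut τ p D, ∃ y ∈ Ut τ p D, ∃ x ∈ Xt τ p D i, u = y * x ∧
    ∀ a ∈ Nit τ p D i, a * y * a⁻¹ ∈ Ut τ p D
  rank_one : ∀ i, ∀ a ∈ Nit τ p D i, ∀ x ∈ Xt τ p D i, x ≠ 1 →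
    ∃ x₁ ∈ Xt τ p D i, ∃ h ∈ Hit τ p D i, ∃ x₂ ∈ Xt τ p D i, a * x * a⁻¹ = x₁ * (h * a) * x₂
  /-- `μ⁻¹ X̃_i μ ≤ Ũ` or `μ⁻¹ Ỹ_i μ ≤ Ũ` for `μ ∈ Ñ` -/
  dichotomy : ∀ i, ∀ μ ∈ Nt τ p D,
    (∀ x ∈ Xt τ p D i, μ⁻¹ * x * μ ∈ Ut τ p D) ∨ (∀ y ∈ Yt τ p D i, μ⁻¹ * y * μ ∈ Ut τ p D)

/-- the Bruhat decomposition of `⟨Ũ, Ñ⟩` -/
def Bruhat : Prop :=
  ∀ g ∈ Ut τ p D ⊔ Nt τ p D, ∃ b ∈ Bt τ p D, ∃ ν ∈ Nt τ p D, ∃ b' ∈ Bt τ p D, g = b * ν * b'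

end lift

end Cfsg.Agent.Helper78.PsuII
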